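import Cfsg.Agent.Lib.Helper15.FullyRam
import Cfsg.Agent.Lib.Helper15.RelGl1

set_option autoImplicit false

namespace Cfsg.Agent.Lib.Helper68.FR

open Cfsg Cfsg.Agent.Lib Cfsg.Agent.Lib.Helper15
open scoped ComplexConjugate

variable {Y : Type*} [Group Y] [Fintype Y]

theorem theta_inv {Z : Subgroup Y} [Z.Normal] {θ : Z → ℂ} {Ψ : Y → ℂ}
    (hΨ : IsClassFunction Y Ψ) {e : ℕ} (he : e ≠ 0) (hΨZ : ∀ z : Z, Ψ z = e * θ z) (y : Y) :
    cj Z y θ = θ := by
  funext z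
  rw [cj_apply]
  have h1 := hΨZ ⟨y * z * y⁻¹, (inferInstance : Z.Normal).conj_mem z z.2 y⟩
  have h2 := hΨZ z
  have h3 : Ψ (y * z * y⁻¹) = Ψ z := hΨ z y
  have he' : (e : ℂ) ≠ 0 := by exact_mod_cast he
  apply mul_left_cancel₀ he'
  rw [← h1, ← h2]
  exact h3

/-- a constituent of a restriction of a character which is a multiple of `θ` on `Z` lies over
`θ`. -/
theorem over_of_constituent {Z S : Subgroup Y} [Fintype Z] [Fintype S] (hZS : Z ≤ S)
    {θ : Z → ℂ} (hθ : IsIrrCharacter Z θ) {α : S → ℂ} (hα : IsCharacter S α) {c : ℂ}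
    (hαZ : resFun hZS α = c • θ) {ψ : S → ℂ} (hψ : IsIrrCharacter S ψ)
    (h : classInner α ψ ≠ 0) : classInner (resFun hZS ψ) θ ≠ 0 := by
  have hne : resFun hZS ψ ≠ 0 := by
    intro h0
    exact irr_one_ne_zero hψ (congrFun h0 1)
  obtain ⟨φ, hφ, hφ1⟩ := exists_constituent (char_resFun hZS (irr_char hψ)) hne
  have h1 := inner_ne_zero_of_constituent (resFunLin hZS) (fun γ hγ => char_resFun hZS hγ) hα hψ h
    (irr_char hφ) hφ1
  rw [resFunLin_apply, hαZ, classInner_smul_left] at h1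
  have h2 : classInner θ φ ≠ 0 := fun h => h1 (by rw [h, mul_zero])
  have h3 := irr_eq_of_inner_ne_zero hθ hφ h2
  rw [h3]
  exact hφ1

theorem isPGroup_map {Z S : Subgroup Y} [Z.Normal] (hZS : Z ≤ S) {p c : ℕ}
    (hS : Nat.card S = Nat.card Z * p ^ c) {X : Type*} [Group X] (π : Y →* X)
    (hZπ : Z ≤ π.ker) : IsPGroup p (S.map π) := by
  rintro ⟨g, hg⟩
  obtain ⟨x, hx, rfl⟩ := hg
  refine ⟨c, ?_⟩
  apply Subtype.ext
  change (π x) ^ (p ^ c) = 1
  have h1 : (Z.subgroupOf S).index = p ^ c := by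
    have h2 := (Z.subgroupOf S).card_mul_index
    rw [card_subgroupOf_of_le hZS, hS] at h2
    exact Nat.eq_of_mul_eq_mul_left Nat.card_pos h2
  have h3 := Subgroup.pow_index_mem (Z.subgroupOf S) (⟨x, hx⟩ : S)
  rw [h1, Subgroup.mem_subgroupOf] at h3
  have h4 : x ^ (p ^ c) ∈ π.ker := hZπ h3
  rw [← map_pow]
  exact h4

end Cfsg.Agent.Lib.Helper68.FR
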