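import Cfsg.Agent.Lib.Helper15.RelGl1

set_option autoImplicit false

namespace Cfsg.Agent.Lib.Helper68.FR

open Cfsg Cfsg.Agent.Lib Cfsg.Agent.Lib.Helper15
open scoped ComplexConjugate

/-- PIECE H (a character inducing to a character lying over `θ` only, lies over `θ` only). -/
theorem res_of_induced {H : Type*} [Group H] [Fintype H] {Z K : Subgroup H} [Z.Normal] [K.Normal]
    [Fintype Z] [Fintype K] (hZK : Z ≤ K) {θ : Z → ℂ} (hθ : IsIrrCharacter Z θ)
    {φ : K → ℂ} (hφ : IsCharacter K φ) {c : ℂ} (h : ∀ z : Z, indFun K φ z = c * θ z) :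
    ∃ c' : ℂ, resFun hZK φ = c' • θ := by
  classical
  have h1 := restrict_indFun_normal K φ
  have h2 : c • θ = (Nat.card K : ℂ)⁻¹ • ∑ x : H, resFun hZK (cj K x φ) := by
    funext z
    have h3 := congrFun h1 ⟨(z : H), hZK z.2⟩
    rw [Pi.smul_apply, smul_eq_mul, ← h z]
    refine h3.trans ?_
    simp only [Pi.smul_apply, Finset.sum_apply, resFun_apply]
  have hzero : ∀ η : Z → ℂ, IsIrrCharacter Z η → η ≠ θ → classInner (resFun hZK φ) η = 0 := by
    intro η hη hne
    have h3 : classInner (c • θ) η = 0 := by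
      rw [classInner_smul_left, irr_inner_ne hθ hη (Ne.symm hne), mul_zero]
    rw [h2, classInner_smul_left, classInner_sum_left] at h3
    have hK0 : (Nat.card K : ℂ)⁻¹ ≠ 0 := inv_ne_zero (card_ne_zero K)
    have h4 := (mul_eq_zero.1 h3).resolve_left hK0
    choose n hn using fun x : H =>
      inner_nat (char_resFun hZK (char_cj K x hφ)) (irr_char hη)
    have h5 : ∑ x : H, n x = 0 := by
      have : ((∑ x : H, n x : ℕ) : ℂ) = 0 := by
        rw [← h4]
        push_cast
        exact Finset.sum_congr rfl (fun x _ => (hn x).symm)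
      exact_mod_cast this
    have h6 := (Finset.sum_eq_zero_iff.1 h5) 1 (Finset.mem_univ _)
    have h7 := hn 1
    rw [cj_one, h6] at h7
    simpa using h7
  refine ⟨classInner (resFun hZK φ) θ, ?_⟩
  apply cf_ext (char_cf (char_resFun hZK hφ))
  · intro g k
    simp only [Pi.smul_apply]
    rw [irr_cf hθ]
  · intro χ hχ
    by_cases hχθ : χ = θ
    · subst hχθ
      rw [classInner_smul_left, irr_inner_self hχ, mul_one]
    · rw [hzero χ hχ hχθ, classInner_smul_left, irr_inner_ne hθ hχ (Ne.symm hχθ), mul_zero]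

end Cfsg.Agent.Lib.Helper68.FR
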