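import Cfsg.Agent.Lib.Helper68.FR.ThmG
import Cfsg.Agent.Lib.Helper68.FR.PG
import Cfsg.Agent.Lib.Helper68.FR.PH

set_option autoImplicit false

namespace Cfsg.Agent.Lib.Helper68.FR

open Cfsg Cfsg.Agent.Lib Cfsg.Agent.Lib.Helper15
open scoped ComplexConjugate

theorem arith_card {p : ℕ} (hp : p.Prime) {e m i : ℕ} (he : e ≠ 0) (h : m * i = e ^ 2)
    (hi : ¬ p ∣ i) :
    ∃ b r : ℕ, m = p ^ (2 * b) * r ∧ ¬ p ∣ r ∧ ¬ p ^ (b + 1) ∣ e := by
  obtain ⟨b, e', he', rfl⟩ := Nat.exists_eq_pow_mul_and_not_dvd he p hp.ne_one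
  have hcop : Nat.Coprime (p ^ (2 * b)) i :=
    Nat.Coprime.pow_left _ ((Nat.Prime.coprime_iff_not_dvd hp).2 hi)
  have h1 : p ^ (2 * b) ∣ m * i := by
    rw [h]
    exact ⟨e' ^ 2, by ring⟩
  obtain ⟨r, rfl⟩ := hcop.dvd_of_dvd_mul_right h1
  refine ⟨b, r, rfl, ?_, ?_⟩
  · intro hr
    have h2 : r * i = e' ^ 2 := by
      have h3 : p ^ (2 * b) * (r * i) = p ^ (2 * b) * e' ^ 2 := by
        rw [← mul_assoc, h]; ring
      exact Nat.eq_of_mul_eq_mul_left (pow_pos hp.pos _) h3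
    have h4 : p ∣ e' ^ 2 := by
      rw [← h2]
      exact Dvd.dvd.mul_right hr i
    exact he' (hp.dvd_of_dvd_pow h4)
  · intro h5
    rw [pow_succ] at h5
    exact he' (Nat.dvd_of_mul_dvd_mul_left (pow_pos hp.pos _) h5)

theorem vanish_off {H : Type*} [Group H] [Fintype H] (Z : Subgroup H) [Z.Normal] [Fintype Z]
    {χ : H → ℂ} (hχ : IsIrrCharacter H χ) {θ : Z → ℂ} (hθ : IsIrrCharacter Z θ) {e : ℕ}
    (he : e ^ 2 = Z.index) (hχZ : ∀ z : Z, χ z = e * θ z) : ∀ g : H, g ∉ Z → χ g = 0 := by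
  rw [vanishes_off_iff Z χ]
  have h1 : (fun n : Z => χ n) = (e : ℂ) • θ := by
    funext z
    exact hχZ z
  rw [h1, classInner_smul_left, classInner_smul_right, irr_inner_self hθ, irr_inner_self hχ,
    Complex.conj_natCast, ← Z.card_mul_index, ← he]
  push_cast
  ring

theorem exists_pcompl {H : Type*} [Group H] [Fintype H] (Z : Subgroup H) [Z.Normal]
    {χ : H → ℂ} (hχ : IsIrrCharacter H χ) {θ : Z → ℂ} (hθ : IsIrrCharacter Z θ) {e : ℕ}
    (he : e ^ 2 = Z.index) (hχZ : ∀ z : Z, χ z = e * θ z)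
    (K : Subgroup H) [K.Normal] (hZK : Z ≤ K) {p : ℕ} (hp : p.Prime)
    (hcase : (∀ Q : Subgroup (H ⧸ K), IsPGroup p Q → IsCyclic Q) ∨
      (∃ φ : K → ℂ, IsCharacter K φ ∧ indFun K φ = χ)) :
    ∃ M : Subgroup (H ⧸ K), M.index = p ^ ((Nat.card (H ⧸ K)).factorization p) := by
  classical
  have he0 : e ≠ 0 := by
    rintro rfl
    exact Subgroup.index_ne_zero_of_finite (H := Z) (by simpa using he.symm)
  have hχ0 := vanish_off Z hχ hθ he hχZ
  obtain ⟨D, Y, hZD, hDK, hDY, hDn, hYK, hYi, ⟨d, hDc⟩, hDK'⟩ := exists_DY Z K hZK hp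
  haveI := hDn
  have hZY : Z ≤ Y := hZD.trans hDY
  have hZD' : Z.subgroupOf Y ≤ D.subgroupOf Y := fun x hx => hZD hx
  have hDY0 : D.subgroupOf Y ≤ K.subgroupOf Y := fun x hx => hDK hx
  -- the projection
  let π : Y →* H ⧸ K := (QuotientGroup.mk' K).comp Y.subtype
  have hπ : π.ker = K.subgroupOf Y := by
    ext x
    rw [MonoidHom.mem_ker, Subgroup.mem_subgroupOf]
    exact QuotientGroup.eq_one_iff (x : H)
  have hsurj : Function.Surjective π := by
    intro q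
    obtain ⟨h, rfl⟩ := QuotientGroup.mk_surjective q
    have h1 : h ∈ ((Y ⊔ K : Subgroup H) : Set H) := by
      rw [hYK]; trivial
    rw [Subgroup.mul_normal] at h1
    obtain ⟨y, hy, k, hk, rfl⟩ := Set.mem_mul.1 h1
    refine ⟨⟨y, hy⟩, ?_⟩
    change ((y : H) : H ⧸ K) = ((y * k : H) : H ⧸ K)
    rw [QuotientGroup.eq]
    simpa using hk
  have hidx : (K.subgroupOf Y).index = Nat.card (H ⧸ K) := by
    rw [← hπ, Subgroup.index_ker, MonoidHom.range_eq_top.2 hsurj]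
    exact Nat.card_congr Subgroup.topEquiv.toEquiv
  -- cards
  obtain ⟨m, hm⟩ := Subgroup.card_dvd_of_le hZY
  have hmi : m * Y.index = e ^ 2 := by
    have h1 := Y.card_mul_index
    rw [hm, ← Z.card_mul_index, mul_assoc] at h1
    rw [he]
    exact Nat.eq_of_mul_eq_mul_left Nat.card_pos h1
  obtain ⟨b, r, rfl, hr, heb⟩ := arith_card hp he0 hmi hYi
  have hYc : Nat.card Y = Nat.card (Z.subgroupOf Y) * p ^ (2 * b) * r := by
    rw [card_subgroupOf_of_le hZY, hm, mul_assoc]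
  have hDc' : Nat.card (D.subgroupOf Y) = Nat.card (Z.subgroupOf Y) * p ^ d := by
    rw [card_subgroupOf_of_le hZY, card_subgroupOf_of_le hDY, hDc]
  have hrel : ¬ p ∣ (D.subgroupOf Y).relIndex (K.subgroupOf Y) := by
    rw [← Subgroup.inf_subgroupOf_right K Y, Subgroup.relIndex_subgroupOf inf_le_right]
    intro h1
    apply hDK'
    rw [← Subgroup.relIndex_mul_relIndex D (K ⊓ Y) K (le_inf hDK hDY) inf_le_left]
    exact Dvd.dvd.mul_right h1 _
  have hcase' : (∀ Q : Subgroup (H ⧸ K), IsPGroup p Q → IsCyclic Q) ∨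
      (∃ Φ : D.subgroupOf Y → ℂ, IsCharacter (D.subgroupOf Y) Φ ∧
        (∃ c : ℂ, resFun hZD' Φ = c • downFun Z Y θ) ∧
        Φ 1 * (K.subgroupOf Y).index = e * downFun Z Y θ 1) := by
    rcases hcase with h | ⟨φ, hφ, hind⟩
    · exact Or.inl h
    · right
      obtain ⟨c', hc'⟩ := res_of_induced hZK hθ hφ (c := e) (fun z => by rw [hind]; exact hχZ z)
      refine ⟨downFun D Y (resFun hDK φ), char_downFun hDY (char_resFun hDK hφ), ⟨c', ?_⟩, ?_⟩
      · funext z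
        exact congrFun hc' ⟨((z : Y) : H), z.2⟩
      · have h1 := Helper15.indFun_one K φ
        rw [hind] at h1
        have h2 := hχZ 1
        rw [Subgroup.coe_one, h1] at h2
        rw [hidx, ← Subgroup.index_eq_card]
        have h3 : downFun D Y (resFun hDK φ) 1 = φ 1 := rfl
        have h4 : downFun Z Y θ 1 = θ 1 := rfl
        rw [h3, h4, ← h2]
        ring
  obtain ⟨Y1, hY1, hY1i⟩ := thmG (Y := Y) hZD' hDY0 hp (irr_downFun hZY hθ)
    (char_restrict (irr_char hχ) Y) he0 (fun z => hχZ ⟨((z : Y) : H), z.2⟩)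
    (fun y hy => hχ0 y hy) hYc hr heb hDc' hrel π hπ hcase'
  refine ⟨Y1.map π, ?_⟩
  have h1 : (Y1.map π).index = Y1.index :=
    Subgroup.index_map_eq (H := Y1) hsurj (by rw [hπ]; exact hY1)
  rw [h1, hY1i, hidx]

end Cfsg.Agent.Lib.Helper68.FR
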