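import Cfsg.Agent.Lib.Helper15.FullyRam
import Cfsg.Agent.Lib.Helper15.RelGl1
import Cfsg.Agent.S0886

set_option autoImplicit false

namespace Cfsg.Agent.Lib.Helper68.FR

open Cfsg Cfsg.Agent.Lib Cfsg.Agent.Lib.Helper15
open scoped ComplexConjugate

variable {Y : Type*} [Group Y] [Fintype Y]

theorem isCyclic_quot {D S T : Subgroup Y} [D.Normal] (hTS : T ≤ S)
    {X : Type*} [Group X] (π : Y →* X) (hker : ∀ x ∈ S, π x = 1 → x ∈ D)
    (hcyc : IsCyclic (S.map π)) : IsCyclic (T ⧸ D.subgroupOf T) := by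
  have hle : T.map π ≤ S.map π := Subgroup.map_mono hTS
  haveI : IsCyclic ((T.map π).subgroupOf (S.map π)) := inferInstance
  haveI : IsCyclic (T.map π) := isCyclic_of_surjective (Subgroup.subgroupOfEquivOfLe hle)
    (Subgroup.subgroupOfEquivOfLe hle).surjective
  obtain ⟨⟨g, hg⟩, hgen⟩ := exists_zpow_surjective (T.map π)
  obtain ⟨g0, hg0, rfl⟩ := hg
  refine ⟨⟨QuotientGroup.mk (⟨g0, hg0⟩ : T), ?_⟩⟩
  intro q
  induction q using QuotientGroup.induction_on with
  | H t =>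
    obtain ⟨k, hk⟩ := hgen ⟨π t, ⟨t, t.2, rfl⟩⟩
    refine ⟨k, ?_⟩
    change (QuotientGroup.mk (⟨g0, hg0⟩ : T) : T ⧸ D.subgroupOf T) ^ k = QuotientGroup.mk t
    rw [← QuotientGroup.mk_zpow, QuotientGroup.eq, Subgroup.mem_subgroupOf]
    have h1 : (π g0) ^ k = π t := congrArg Subtype.val hk
    apply hker
    · exact hTS (Subgroup.mul_mem _ (Subgroup.inv_mem _ (Subgroup.zpow_mem _ hg0 k)) t.2)
    · simp only [Subgroup.coe_mul, Subgroup.coe_inv, Subgroup.coe_zpow, map_mul, map_inv, map_zpow]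
      rw [h1]
      simp

/-- PIECE C (restriction to a normal subgroup with cyclic quotient is multiplicity free). -/
theorem mult_one_of_cyclic {D S : Subgroup Y} [D.Normal] [Fintype D] [Fintype S] (hDS : D ≤ S)
    {X : Type*} [Group X] (π : Y →* X) (hker : ∀ x ∈ S, π x = 1 → x ∈ D)
    (hcyc : IsCyclic (S.map π))
    {ψ : S → ℂ} (hψ : IsIrrCharacter S ψ) {ξ : D → ℂ} (hξ : IsIrrCharacter D ξ)
    (h : classInner (resFun hDS ψ) ξ ≠ 0) : classInner (resFun hDS ψ) ξ = 1 := by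
  classical
  obtain ⟨T, hT⟩ : ∃ T : Subgroup Y, T = S ⊓ inertia D ξ := ⟨_, rfl⟩
  have hDT : D ≤ T := by
    rw [hT]
    exact le_inf hDS (le_inertia D (irr_cf hξ))
  have hTS : T ≤ S := by
    rw [hT]
    exact inf_le_left
  have hTinv : ∀ k : T, cj D (k : Y) ξ = ξ := by
    intro k
    have h1 : (k : Y) ∈ S ⊓ inertia D ξ := by
      rw [← hT]
      exact k.2
    exact h1.2
  obtain ⟨-, -, h3, h4⟩ := rel_clifford_correspondence hDT hTS hξ hT
  obtain ⟨ψT, hψT, hψTξ, hind⟩ := h4 ψ hψ h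
  have h5 := h3 ψT hψT hψTξ
  rw [hind] at h5
  have h5' : classInner (resFun hDS ψ) ξ = classInner (resFun hDT ψT) ξ := h5
  rw [h5']
  -- extension
  have hcycT : IsCyclic (T ⧸ D.subgroupOf T) := isCyclic_quot hTS π hker hcyc
  have hξ' : IsIrrCharacter (D.subgroupOf T) (downFun D T ξ) := irr_downFun hDT hξ
  obtain ⟨χ, hχ, hχN⟩ := Cfsg.Agent.S0886.result (D.subgroupOf T) hcycT (downFun D T ξ) hξ'
    (fun g n => by
      have h6 := congrFun (cj_downFun D T g ξ) n
      rw [hTinv g] at h6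
      exact h6)
  have hχN' : (fun n : D.subgroupOf T => χ n) = downFun D T ξ := funext hχN
  have hab : ∀ a b : T ⧸ D.subgroupOf T, a * b = b * a := by
    letI := hcycT.commGroup
    exact fun a b => mul_comm a b
  have h7 := (exists_equiv_over (D.subgroupOf T) hab hχ (by rw [hχN']; exact hξ')).2 ⟨ψT, hψT⟩ (by
    rw [hχN']
    change classInner (downFun D T (resFun hDT ψT)) (downFun D T ξ) ≠ 0
    rw [classInner_downFun hDT]
    exact hψTξ)
  have h8 : χ 1 = ξ 1 := hχN 1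
  have h9 := congrFun (rel_restrict_eq_smul hDT hψT hξ hψTξ hTinv) 1
  rw [Pi.smul_apply, smul_eq_mul] at h9
  have h10 : ψT 1 = classInner (resFun hDT ψT) ξ * ξ 1 := h9
  have h11 : ψT 1 = ξ 1 := h7.trans h8
  rw [h11] at h10
  have h12 := irr_one_ne_zero hξ
  have h13 : (classInner (resFun hDT ψT) ξ - 1) * ξ 1 = 0 := by
    rw [sub_mul, ← h10]; ring
  have h14 := (mul_eq_zero.1 h13).resolve_right h12
  exact sub_eq_zero.1 h14

end Cfsg.Agent.Lib.Helper68.FR
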