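import Cfsg.Agent.Lib.Helper68.FR.Basic

set_option autoImplicit false

namespace Cfsg.Agent.Lib.Helper68.FR

open Cfsg Cfsg.Agent.Lib Cfsg.Agent.Lib.Helper15
open scoped ComplexConjugate

variable {Y : Type*} [Group Y] [Fintype Y]

/-- PIECE D1 (degree divisibility). -/
theorem degree_dvd {Z D S : Subgroup Y} [Z.Normal] [D.Normal] [Fintype Z] [Fintype D]
    (hZD : Z ≤ D) {θ : Z → ℂ} (hθ : IsIrrCharacter Z θ)
    {ξ : D → ℂ}
    (hconj : ∀ ξ' : D → ℂ, IsIrrCharacter D ξ' → classInner (resFun hZD ξ') θ ≠ 0 →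
      ∃ k : S, ξ' = cj D (k : Y) ξ)
    {Φ : D → ℂ} (hΦ : IsCharacter D Φ) {c : ℂ} (hΦθ : resFun hZD Φ = c • θ) :
    ∃ A : ℕ, Φ 1 = A * ξ 1 := by
  classical
  obtain ⟨a, ha1, ha2, -⟩ := Helper80.exists_mult_spec hΦ
  refine ⟨∑ ψ : IrrCharacter D, a ψ, ?_⟩
  conv_lhs => rw [ha2]
  rw [Finset.sum_apply]
  push_cast
  rw [Finset.sum_mul]
  apply Finset.sum_congr rfl
  intro ψ _
  rw [Pi.smul_apply, smul_eq_mul]
  by_cases h0 : a ψ = 0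
  · rw [h0]; simp
  · have h1 : classInner Φ (ψ : D → ℂ) ≠ 0 := by
      rw [ha1]
      exact_mod_cast h0
    obtain ⟨k, hk⟩ := hconj ψ ψ.2 (over_of_constituent hZD hθ hΦ hΦθ ψ.2 h1)
    rw [hk, cj_apply_one]

end Cfsg.Agent.Lib.Helper68.FR
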