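import Cfsg.Agent.Lib.Helper68.FR.Basic
import Cfsg.Agent.Lib.Helper16.FR_A
import Cfsg.Agent.Lib.Helper16.FR_B
import Cfsg.Agent.Lib.Helper68.FR.PC
import Cfsg.Agent.Lib.Helper68.FR.PD1
import Cfsg.Agent.Lib.Helper68.FR.PD2
import Cfsg.Agent.Lib.Helper68.FR.PE
import Cfsg.Agent.Lib.Helper68.FR.PF

set_option autoImplicit false

namespace Cfsg.Agent.Lib.Helper68.FR

open Cfsg Cfsg.Agent.Lib Cfsg.Agent.Lib.Helper15
open scoped ComplexConjugate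

variable {Y : Type*} [Group Y] [Fintype Y]

theorem thmG {Z D Y0 : Subgroup Y} [Z.Normal] [D.Normal] [Y0.Normal] (hZD : Z ≤ D)
    (hDY0 : D ≤ Y0) {p : ℕ} (hp : p.Prime) {θ : Z → ℂ} (hθ : IsIrrCharacter Z θ)
    {Ψ : Y → ℂ} (hΨ : IsCharacter Y Ψ) {e : ℕ} (he : e ≠ 0)
    (hΨZ : ∀ z : Z, Ψ z = e * θ z) (hΨ0 : ∀ y : Y, y ∉ Z → Ψ y = 0)
    {b r d : ℕ} (hY : Nat.card Y = Nat.card Z * p ^ (2 * b) * r) (hr : ¬ p ∣ r)
    (heb : ¬ p ^ (b + 1) ∣ e) (hD : Nat.card D = Nat.card Z * p ^ d)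
    (hY0 : ¬ p ∣ D.relIndex Y0) {X : Type*} [Group X] (π : Y →* X) (hπ : π.ker = Y0)
    (hcase : (∀ Q : Subgroup X, IsPGroup p Q → IsCyclic Q) ∨
      (∃ Φ : D → ℂ, IsCharacter D Φ ∧ (∃ c : ℂ, resFun hZD Φ = c • θ) ∧
        Φ 1 * Y0.index = e * θ 1)) :
    ∃ Y1 : Subgroup Y, Y0 ≤ Y1 ∧ Y1.index = p ^ (Y0.index.factorization p) := by
  classical
  obtain ⟨S, hDS, hScard, hSY0, r', hSD, hidx⟩ := exists_S hZD hDY0 hp hY hr hD hY0
  have hZS : Z ≤ S := hZD.trans hDS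
  have hinv : ∀ y : Y, cj Z y θ = θ := theta_inv (char_cf hΨ) he hΨZ
  -- choose `ψ`
  have hΨS : IsCharacter S (fun x : S => Ψ x) := char_restrict hΨ S
  have he' : (e : ℂ) ≠ 0 := by exact_mod_cast he
  have hΨS0 : (fun x : S => Ψ x) ≠ 0 := by
    intro h0
    have h1 : Ψ 1 = 0 := congrFun h0 1
    have h2 := hΨZ 1
    rw [Subgroup.coe_one, h1] at h2
    exact (mul_ne_zero he' (irr_one_ne_zero hθ)) h2.symm
  obtain ⟨ψ, hψ, hψ1⟩ := exists_constituent hΨS hΨS0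
  have hΨSZ : resFun hZS (fun x : S => Ψ x) = (e : ℂ) • θ := by
    funext z
    exact hΨZ z
  have hψθ : classInner (resFun hZS ψ) θ ≠ 0 := over_of_constituent hZS hθ hΨS hΨSZ hψ hψ1
  obtain ⟨hψZ, hψ0⟩ := Helper16.FR.dj hZS hp hθ hΨ he hΨZ hΨ0 hScard heb hψ hψθ
  have huniq : ∀ ψ' : S → ℂ, IsIrrCharacter S ψ' →
      classInner (resFun (hZD.trans hDS) ψ') θ ≠ 0 → ψ' = ψ := by
    intro ψ' hψ' hψ'θ
    obtain ⟨h1, h2⟩ := Helper16.FR.dj hZS hp hθ hΨ he hΨZ hΨ0 hScard heb hψ' hψ'θ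
    funext x
    by_cases hx : (x : Y) ∈ Z
    · have h3 := congrFun h1 ⟨x, hx⟩
      have h4 := congrFun hψZ ⟨x, hx⟩
      rw [resFun_apply] at h3 h4
      exact h3.trans h4.symm
    · rw [h2 x hx, hψ0 x hx]
  -- choose `ξ`
  have hψD0 : resFun hDS ψ ≠ 0 := by
    intro h0
    exact irr_one_ne_zero hψ (congrFun h0 1)
  obtain ⟨ξ, hξ, hξ1⟩ := exists_constituent (char_resFun hDS (irr_char hψ)) hψD0
  have hξθ : classInner (resFun hZD ξ) θ ≠ 0 :=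
    over_of_constituent hZD hθ (char_resFun hDS (irr_char hψ)) (c := ((p ^ b : ℕ) : ℂ))
      hψZ hξ hξ1
  obtain ⟨hconj, f, hf, hf0, hft, hdeg⟩ := Helper16.FR.orbit_count hZD hDS hθ hψ huniq hψ0 hξ hξθ
  set t := (Finset.univ.image (fun k : S => cj D (k : Y) ξ)).card with ht
  set a := Y0.index.factorization p with ha
  have hft' : f ^ 2 * t = p ^ a := by
    rw [hSD, mul_comm (Nat.card D)] at hft
    exact Nat.eq_of_mul_eq_mul_right Nat.card_pos hft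
  have hf1 : f = 1 := by
    rcases hcase with hcyc | ⟨Φ, hΦ, ⟨c, hΦθ⟩, hΦ1⟩
    · have h1 : IsCyclic (S.map π) :=
        hcyc _ (isPGroup_map hZS hScard π (by rw [hπ]; exact hZD.trans hDY0))
      have h2 := mult_one_of_cyclic hDS π (fun x hx hx1 => by
        have : x ∈ S ⊓ Y0 := ⟨hx, by rw [← hπ]; exact hx1⟩
        rwa [hSY0] at this) h1 hψ hξ hξ1
      rw [hf] at h2
      exact_mod_cast h2
    · obtain ⟨A, hA⟩ := degree_dvd (S := S) hZD hθ hconj hΦ hΦθ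
      obtain ⟨x, hx⟩ := char_one_nat (irr_char hξ)
      obtain ⟨t1, ht1⟩ := char_one_nat (irr_char hθ)
      have ht10 : t1 ≠ 0 := by
        rintro rfl
        exact irr_one_ne_zero hθ (by rw [ht1]; simp)
      have h1 : A * x * Y0.index = e * t1 := by
        rw [hA, hx, ht1] at hΦ1
        exact_mod_cast hΦ1
      have h2 : p ^ b * t1 = f * t * x := by
        have h3 := congrFun hψZ 1
        rw [resFun_apply, Pi.smul_apply, smul_eq_mul, ht1] at h3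
        have h4 : ψ 1 = ((p ^ b : ℕ) : ℂ) * t1 := h3
        rw [hdeg, hx] at h4
        exact_mod_cast h4.symm
      exact arith_f_one hp ht10 h1 h2 hft' rfl hidx heb
  have htcard : t = p ^ a := by
    rw [hf1] at hft'
    simpa using hft'
  refine exists_Y1 (S := S) hDY0 hp hY0 (irr_cf hξ) (fun y => ?_) htcard
  refine hconj _ (irr_cj D y hξ) ?_
  rw [← cj_resFun hZD y ξ, ← hinv y, classInner_cj_cj]
  exact hξθ

end Cfsg.Agent.Lib.Helper68.FR
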